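import Cfsg.Agent.Foote.Bridge
import Cfsg.Agent.Foote.Local
set_option linter.all false

/-!
# S1252, simple case: groups with a centralizer of odd index which is a double cover (helper39)

`cr_of_cover`: `G` perfect, `H` of odd index, `f : H → L` surjective with kernel `{1, z}`, `CR L`, and a conjugate of `z`
different from `z` in `H`; then `CR G`.
`cr_of_invol`: one class of involutions and a Sylow `2`-subgroup generated by involutions.
-/

set_option autoImplicit false

namespace Cfsg.Agent.ClosedSpor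

open Subgroup Cfsg.Agent.TwoFusion.ClosedFam Cfsg.Agent.ClosedTwo Cfsg.Agent.Foote

variable {G : Type*} [Group G]

/-- **Double covers of odd index.** -/
theorem cr_of_cover [Finite G] (hG : commutator G = ⊤) {H : Subgroup G} (hH : ¬ 2 ∣ H.index) {L : Type*} [Group L]
    (hL : CR L) (f : H →* L) (hf : Function.Surjective f) (z : H) (hker : ∀ x, f x = 1 ↔ x = 1 ∨ x = z)
    (hz : ∃ k : G, k * z * k⁻¹ ∈ H ∧ k * z * k⁻¹ ≠ 1 ∧ k * z * k⁻¹ ≠ (z : G)) : CR G := by
  intro 𝒜 h
  have hr := h.restrict H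
  rcases hL _ (hr.image hf) with h1 | h1
  · left
    have h2 : ∀ x ∈ 𝒜, ∀ hx : x ∈ H, x = 1 ∨ x = z := by
      intro x hx hxH
      rcases (hker ⟨x, hxH⟩).1 (h1 _ ⟨⟨x, hxH⟩, hx, rfl⟩) with h3 | h3
      · exact Or.inl (congrArg Subtype.val h3)
      · exact Or.inr (congrArg Subtype.val h3)
    refine triv_of_odd h hH fun x hx hxH => ?_
    rcases h2 x hx hxH with h3 | h3
    · exact h3
    · exfalso
      obtain ⟨k, hk, hk1, hk2⟩ := hz
      rcases h2 _ (h.conj_mem x hx k) (by rw [h3]; exact hk) with h4 | h4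
      · rw [h3] at h4; exact hk1 h4
      · rw [h3] at h4; exact hk2 h4
  · right
    obtain ⟨S, hS⟩ := exists_sylow_le hH
    -- `z` is a central involution of `H`
    have hzz : z * z = 1 := by
      have h3 : f (z * z) = 1 := by rw [map_mul, (hker z).2 (Or.inr rfl), one_mul]
      rcases (hker _).1 h3 with h4 | h4
      · exact h4
      · have h5 : z = 1 := mul_eq_left.1 h4
        rw [h5, one_mul]
    have hzc : ∀ g : H, g * z * g⁻¹ = z := by
      intro g
      have h3 : f (g * z * g⁻¹) = 1 := by rw [map_mul, map_mul, (hker z).2 (Or.inr rfl), mul_one, map_inv, mul_inv_cancel]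
      rcases (hker _).1 h3 with h4 | h4
      · have h5 : z = 1 := by
          have h6 := congrArg (fun t => g⁻¹ * t * g) h4
          simpa [mul_assoc] using h6
        rw [h5]; group
      · exact h4
    have hQ2 : IsPGroup 2 (zpowers (z : G)) := by
      have h3 : TwoEl (z : G) := ⟨1, by
        rw [pow_one, pow_two]
        exact congrArg Subtype.val hzz⟩
      exact h3.isPGroup
    have hQn : H ≤ normalizer (zpowers (z : G) : Set G) := by
      intro g hg
      have h4 : g * z * g⁻¹ = (z : G) := congrArg Subtype.val (hzc ⟨g, hg⟩)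
      have h5 : ∀ n : ℤ, g * (z : G) ^ n * g⁻¹ = (z : G) ^ n := by
        intro n
        rw [← conj_zpow, h4]
      rw [mem_normalizer_iff]
      intro x
      constructor
      · rintro ⟨n, rfl⟩
        exact ⟨n, (h5 n).symm⟩
      · rintro ⟨n, hn⟩
        refine ⟨n, ?_⟩
        have h6 : g * (z : G) ^ n * g⁻¹ = g * x * g⁻¹ := by rw [h5 n]; exact hn
        exact mul_left_cancel (mul_right_cancel h6)
    have hzS : (z : G) ∈ S := le_sylow_of_normal hQ2 hQn S hS (mem_zpowers _)
    refine full_of_cyclic hG h S z hzS fun x hx => ?_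
    obtain ⟨a, ha, hax⟩ := h1 (f ⟨x, hS hx⟩) ((twoEl_coe.1 (twoEl_of_mem S.2 hx : TwoEl ((⟨x, hS hx⟩ : H) : G))).map f)
    have h3 : f (a⁻¹ * ⟨x, hS hx⟩) = 1 := by rw [map_mul, map_inv, hax, inv_mul_cancel]
    rcases (hker _).1 h3 with h4 | h4
    · refine ⟨0, ?_⟩
      have h5 : (⟨x, hS hx⟩ : H) = a := (inv_mul_eq_one.1 h4).symm
      have h6 : x = a := congrArg Subtype.val h5
      rw [zpow_zero, mul_one, h6]
      exact ha
    · refine ⟨1, ?_⟩
      have h5 : (⟨x, hS hx⟩ : H) = a * z := by rw [← h4]; group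
      have h6 : x = a * z := congrArg Subtype.val h5
      have h7 : (z : G) * z = 1 := congrArg Subtype.val hzz
      rw [zpow_one, h6, mul_assoc, h7, mul_one]
      exact ha

/-- one class of involutions -/
theorem invol_mem {𝒜 : Set G} (h : IsClosedFam 𝒜) (hne : ¬ Triv 𝒜) (hone : ∀ s t : G, s * s = 1 → s ≠ 1 → t * t = 1 → t ≠ 1 → IsConj s t)
    {t : G} (ht : t * t = 1) : t ∈ 𝒜 := by
  by_cases ht1 : t = 1
  · rw [ht1]; exact h.one_mem
  obtain ⟨x, hx, hx1⟩ : ∃ x ∈ 𝒜, x ≠ 1 := by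
    by_contra hcon
    push Not at hcon
    exact hne hcon
  have hex : ∃ k, x ^ 2 ^ k = 1 := h.two _ hx
  classical
  set m := Nat.find hex with hm
  have hm1 : x ^ 2 ^ m = 1 := Nat.find_spec hex
  have hm0 : m ≠ 0 := by
    intro h0
    rw [h0, pow_zero, pow_one] at hm1
    exact hx1 hm1
  obtain ⟨j, hj⟩ : ∃ j, m = j + 1 := ⟨m - 1, by omega⟩
  have h1 : x ^ 2 ^ j ∈ 𝒜 := h.pow_mem hx _
  have h2 : x ^ 2 ^ j ≠ 1 := Nat.find_min hex (by omega)
  have h3 : x ^ 2 ^ j * x ^ 2 ^ j = 1 := by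
    rw [← pow_add]
    have : 2 ^ j + 2 ^ j = 2 ^ m := by rw [hj, pow_succ]; ring
    rw [this, hm1]
  obtain ⟨g, hg⟩ := isConj_iff.1 (hone _ _ h3 h2 ht ht1)
  rw [← hg]
  exact h.conj_mem _ h1 g

/-- **One class of involutions**, Sylow subgroup generated by involutions. -/
theorem cr_of_invol [Finite G] (hone : ∀ s t : G, s * s = 1 → s ≠ 1 → t * t = 1 → t ≠ 1 → IsConj s t) (S : Sylow 2 G)
    (hgen : ∀ B : Subgroup G, (∀ t ∈ S, t * t = 1 → t ∈ B) → (S : Subgroup G) ≤ B) : CR G := by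
  intro 𝒜 h
  by_cases hne : Triv 𝒜
  · exact Or.inl hne
  right
  refine full_of_sylow h S fun x hx => ?_
  have h1 : (S : Subgroup G) ≤ fam 𝒜 (S : Subgroup G) := hgen _ fun t ht htt => mem_fam (invol_mem h hne hone htt) ht
  exact ((h.mem_fam_iff S.2).1 (h1 hx)).1

end Cfsg.Agent.ClosedSpor
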